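import Groth.Agent.Lib.FibreFlat.Fibrewise
import Mathlib.AlgebraicGeometry.Morphisms.LocalFlatDescent
import Mathlib.CategoryTheory.Comma.Over.Pullback

/-!
# Smoothness of a map over a base and its base changes
-/

universe u

open AlgebraicGeometry CategoryTheory Limits MorphismProperty

set_option linter.style.haveILetI false

namespace GrothLib.FibSmooth14

variable {S : Scheme.{u}} {X Y : Over S}

/-- The base change of a morphism over `S` is its pullback along the projection. -/
theorem isPullback_map (m : X ⟶ Y) {T : Scheme.{u}} (t : T ⟶ S) :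
    IsPullback (pullback.fst X.hom t) ((Over.pullback t).map m).left m.left (pullback.fst Y.hom t) := by
  have h2 : IsPullback (pullback.snd Y.hom t) (pullback.fst Y.hom t) t Y.hom := (IsPullback.of_hasPullback Y.hom t).flip
  have w1 : pullback.fst X.hom t ≫ m.left = ((Over.pullback t).map m).left ≫ pullback.fst Y.hom t :=
    (pullback.lift_fst _ _ _).symm
  have w2 : ((Over.pullback t).map m).left ≫ pullback.snd Y.hom t = pullback.snd X.hom t :=
    pullback.lift_snd _ _ _
  refine IsPullback.of_bot ?_ w1 (IsPullback.of_hasPullback Y.hom t)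
  rw [w2, Over.w m]
  exact IsPullback.of_hasPullback X.hom t

theorem smooth_map_iff (m : X ⟶ Y) {T : Scheme.{u}} (t : T ⟶ S) :
    Smooth ((Over.pullback t).map m).left ↔ Smooth (pullback.snd m.left (pullback.fst Y.hom t)) := by
  have h := isPullback_map m t
  rw [show ((Over.pullback t).map m).left = h.isoPullback.hom ≫ pullback.snd _ _ from h.isoPullback_hom_snd.symm]
  exact cancel_left_of_respectsIso @Smooth _ _

theorem smooth_snd_comp (f : X.left ⟶ Y.left) {A B : Scheme.{u}} (j : A ⟶ B) (b : B ⟶ Y.left) :
    Smooth (pullback.snd (pullback.snd f b) j) ↔ Smooth (pullback.snd f (j ≫ b)) := by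
  rw [show pullback.snd (pullback.snd f b) j =
    (pullbackLeftPullbackSndIso f b j).hom ≫ pullback.snd f (j ≫ b) from (pullbackLeftPullbackSndIso_hom_snd _ _ _).symm]
  exact cancel_left_of_respectsIso @Smooth _ _

theorem smooth_iff_fibres (m : X ⟶ Y) [Smooth X.hom] [LocallyOfFiniteType Y.hom] :
    Smooth m.left ↔ ∀ s : S, Smooth ((Over.pullback (S.fromSpecResidueField s)).map m).left := by
  refine ⟨fun h s => ?_, fun h => ?_⟩
  · rw [smooth_map_iff]
    exact MorphismProperty.pullback_snd (P := @Smooth) _ _ h
  · haveI : Smooth (m.left ≫ Y.hom) := by rw [Over.w m]; infer_instance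
    haveI : Flat (m.left ≫ Y.hom) := inferInstance
    haveI : LocallyOfFinitePresentation (m.left ≫ Y.hom) := inferInstance
    exact GrothLib.FibreFlat.smooth_of_fibrewise m.left Y.hom fun s => (smooth_map_iff m _).1 (h s)

theorem smooth_of_surjective (m : X ⟶ Y) [Smooth X.hom] [LocallyOfFiniteType Y.hom] {S' : Scheme.{u}} (g : S' ⟶ S)
    (hg : Surjective g) (h : Smooth ((Over.pullback g).map m).left) : Smooth m.left := by
  refine (smooth_iff_fibres m).2 fun s => ?_
  obtain ⟨s', hs'⟩ := hg.surj s
  subst hs'
  rw [smooth_map_iff]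
  rw [smooth_map_iff] at h
  let c : Spec (S'.residueField s') ⟶ Spec (S.residueField (g s')) := Spec.map (g.residueFieldMap s')
  let j : pullback Y.hom (c ≫ S.fromSpecResidueField (g s')) ⟶ pullback Y.hom (S.fromSpecResidueField (g s')) :=
    (pullbackLeftPullbackSndIso Y.hom (S.fromSpecResidueField (g s')) c).inv ≫
      pullback.fst (pullback.snd Y.hom (S.fromSpecResidueField (g s'))) c
  have hc : c ≫ S.fromSpecResidueField (g s') = S'.fromSpecResidueField s' ≫ g :=
    Scheme.Hom.SpecMap_residueFieldMap_fromSpecResidueField g s'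
  haveI : Surjective c := ⟨fun z => ⟨IsLocalRing.closedPoint _, Subsingleton.elim _ _⟩⟩
  haveI : Flat c := by
    rw [HasRingHomProperty.Spec_iff (P := @Flat)]
    letI := (g.residueFieldMap s').hom.toAlgebra
    exact Module.Flat.of_free
  haveI : QuasiCompact c := inferInstance
  have hjP : (@Surjective ⊓ @Flat ⊓ @QuasiCompact : MorphismProperty Scheme.{u}) j := by
    refine ⟨⟨?_, ?_⟩, ?_⟩
    · change Surjective j; infer_instance
    · change Flat j; infer_instance
    · change QuasiCompact j; infer_instance
  refine of_pullback_snd_of_descendsAlong (P := @Smooth)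
    (Q := (@Surjective ⊓ @Flat ⊓ @QuasiCompact : MorphismProperty Scheme.{u})) hjP ?_
  rw [smooth_snd_comp m.left j]
  let k : pullback Y.hom (c ≫ S.fromSpecResidueField (g s')) ⟶ pullback Y.hom g :=
    pullback.lift (pullback.fst _ _) (pullback.snd _ _ ≫ S'.fromSpecResidueField s')
      (by rw [Category.assoc, ← hc]; exact pullback.condition)
  have hk : k ≫ pullback.fst Y.hom g = j ≫ pullback.fst Y.hom (S.fromSpecResidueField (g s')) := by
    rw [pullback.lift_fst, Category.assoc, pullbackLeftPullbackSndIso_inv_fst]
  rw [← hk, ← smooth_snd_comp m.left k]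
  exact MorphismProperty.pullback_snd (P := @Smooth) _ _ h

end GrothLib.FibSmooth14
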